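import Cfsg.Agent.Gag.Main
import Cfsg.Agent.WalCor.PSL2Fix
import Cfsg.Agent.Known.SL2Unip
import Cfsg.Agent.Known.PSL2Basic
import Cfsg.Agent.Class.Zsigmondy
import Cfsg.Agent.Char.JordanBound
import Cfsg.Agent.Spor.J1Main
import Cfsg.Agent.S2602
import Cfsg.Agent.S2065
import Cfsg.Agent.S2119

/-!
# Good primes for `L₂(q)`, `J₁` and `A₇`
-/

set_option autoImplicit false

open Cfsg Cfsg.Lib.Known.GL2 Pointwise

namespace Cfsg.Lib.Gag

section General

variable {S : Type*} [Group S] [Finite S] {p : ℕ}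

theorem cyc_of_sylow [Fact p.Prime] (R : Sylow p S) (hR : IsCyclic R) (X : Subgroup S)
    (hX : IsPGroup p X) : IsCyclic X := by
  obtain ⟨Q, hQ⟩ := hX.exists_le_sylow
  have : IsCyclic (Q : Subgroup S) := isCyclic_of_surjective _ (Sylow.equiv R Q).surjective
  exact Subgroup.isCyclic_of_le hQ

theorem cyc_of_orderOf [hp : Fact p.Prime] {x : S} {a : ℕ} (hx : orderOf x = p ^ a)
    (ha : ¬ p ^ (a + 1) ∣ Nat.card S) (X : Subgroup S) (hX : IsPGroup p X) : IsCyclic X := by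
  have h1 : Nat.card (Subgroup.zpowers x) = p ^ a := by rw [Nat.card_zpowers, hx]
  refine cyc_of_sylow ((IsPGroup.of_card h1).toSylow fun h => ha ?_) (Subgroup.isCyclic_zpowers x)
    X hX
  rw [← (Subgroup.zpowers x).card_mul_index, h1, pow_succ]
  exact mul_dvd_mul_left _ h

theorem cyc_of_surjective [hp : Fact p.Prime] {S' : Type*} [Group S'] {f : S →* S'}
    (hf : Function.Surjective f) (h : ∀ X : Subgroup S, IsPGroup p X → IsCyclic X)
    (X : Subgroup S') (hX : IsPGroup p X) : IsCyclic X := by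
  have := Finite.of_surjective f hf
  obtain ⟨R⟩ : Nonempty (Sylow p S) := inferInstance
  have := h _ R.isPGroup'
  exact cyc_of_sylow (R.mapSurjective hf)
    (isCyclic_of_surjective _ (f.subgroupMap_surjective (R : Subgroup S))) X hX

theorem exists_conj_le {r : ℕ} [Fact r.Prime] (R : Sylow r S) {U : Subgroup S}
    (hU : ¬ r ∣ U.index) : ∃ U' : Subgroup S, U'.index = U.index ∧ (R : Subgroup S) ≤ U' := by
  obtain ⟨Q⟩ : Nonempty (Sylow r U) := inferInstance
  let Q' : Sylow r S := (Q.isPGroup'.map U.subtype).toSylow (by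
    rw [Subgroup.index_map_subtype, Nat.Prime.dvd_mul Fact.out]
    exact fun h => h.elim Q.not_dvd_index hU)
  obtain ⟨g, hg⟩ := MulAction.exists_smul_eq S R Q'
  refine ⟨U.comap (MulAut.conj g).toMonoidHom,
    Subgroup.index_comap_of_surjective _ (MulAut.conj g).surjective, fun x hx => ?_⟩
  have h1 : MulAut.conj g x ∈ ((g • R : Sylow r S) : Subgroup S) := ⟨x, hx, rfl⟩
  rw [hg] at h1
  exact Subgroup.map_subtype_le (Q : Subgroup U) h1

omit [Finite S] in
theorem out_of_not_dvd (hp : p.Prime) (h : ¬ p ∣ Nat.card (Out S)) (β : MulAut S) (k : ℕ)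
    (hβ : β ^ p ^ k = 1) : ∃ s, ∀ x, β x = s * x * s⁻¹ := by
  have h1 : orderOf (β : Out S) = 1 := Nat.eq_one_of_dvd_coprimes
    (((Nat.Prime.coprime_iff_not_dvd hp).2 h).pow_left k)
    (orderOf_dvd_of_pow_eq_one (by rw [← QuotientGroup.mk_pow, hβ, QuotientGroup.mk_one]))
    (orderOf_dvd_natCard _)
  obtain ⟨s, rfl⟩ := (QuotientGroup.eq_one_iff β).1 (orderOf_eq_one_iff.1 h1)
  exact ⟨s, fun x => rfl⟩

theorem good_of_card [IsSimpleGroup S] [hp : Fact p.Prime] (h2 : p ≠ 2) (hd : p ∣ Nat.card S)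
    (hd2 : ¬ p ^ 2 ∣ Nat.card S) (hf : ¬ Nat.card S ∣ p.factorial)
    (hout : ∀ (β : MulAut S) (k : ℕ), β ^ p ^ k = 1 → ∃ s, ∀ x, β x = s * x * s⁻¹) : Good p S := by
  obtain ⟨x, hx⟩ := exists_prime_orderOf_dvd_card' p hd
  refine ⟨hp.out, h2, hd, cyc_of_orderOf (a := 1) (by rw [hx, pow_one]) hd2, fun U j hU => ?_, hout⟩
  rcases U.normalCore_normal.eq_bot_or_eq_top with h | h
  · have h1 := Char.index_normalCore_dvd_factorial U
    rw [h, Subgroup.index_bot, hU] at h1
    rcases j with _ | _ | j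
    · exact Subgroup.index_eq_one.1 hU
    · exact absurd (by simpa using h1) hf
    · exact absurd (((pow_dvd_pow p (by omega)).trans (dvd_of_eq hU.symm)).trans U.index_dvd_card) hd2
  · exact eq_top_iff.2 (h ▸ U.normalCore_le)

end General

theorem good_J1 {S : Type*} [Group S] [Finite S] [IsSimpleGroup S] (h : Spor.IsoJ1 S) :
    Good 3 S := by
  obtain ⟨e⟩ := h
  have := Fact.mk Nat.prime_three
  have := Finite.of_equiv _ e.toEquiv
  have := e.symm.isSimpleGroup
  refine Good.of_equiv (good_of_card (by decide) ?_ ?_ ?_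
    (out_of_not_dvd Nat.prime_three (by rw [Agent.S2065.result]; decide))) e <;>
  rw [Spor.J1.card_J1] <;> decide

theorem good_A7 {S : Type*} [Group S] [IsSimpleGroup S] (e : S ≃* alternatingGroup (Fin 7)) :
    Good 5 S := by
  have := Fact.mk Nat.prime_five
  have := e.symm.isSimpleGroup
  have hc : Nat.card (alternatingGroup (Fin 7)) = 2520 := by
    rw [nat_card_alternatingGroup]; simp [Nat.factorial]
  refine Good.of_equiv (good_of_card (by decide) (by rw [hc]; decide) (by rw [hc]; decide)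
    (by rw [hc]; decide) fun β k hβ => ?_) e
  have hb := Agent.S2119.result 7 (by decide) (by decide)
  obtain ⟨π, rfl⟩ := hb.2 β
  have h1 : π ^ 5 ^ k = 1 := hb.1 (by rw [map_pow, hβ, map_one])
  have h2 : Equiv.Perm.sign π = 1 := by
    have h3 := congrArg Equiv.Perm.sign h1
    rw [map_pow, map_one] at h3
    rcases Int.units_eq_one_or (Equiv.Perm.sign π) with h | h
    · exact h
    · rw [h, Odd.neg_one_pow (Odd.pow (by decide))] at h3
      exact absurd h3 (by decide)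
  exact ⟨⟨π, h2⟩, fun x => Subtype.ext rfl⟩

theorem good_psl2 {F : Type*} [Field F] [Fintype F] {r f p : ℕ} (hr : r.Prime)
    (hF : Fintype.card F = r ^ f) (h4 : 4 ≤ r ^ f) (hp : p.Prime) (h2 : p ≠ 2)
    (hd : p ∣ (r ^ f - 1) * (r ^ f + 1)) (hf : ¬ p ∣ f) (hj : ∀ j, ¬ r ^ f + 1 ∣ p ^ j) :
    Good p (PSL2 F) := by
  have := Fact.mk hr
  have := Fact.mk hp
  have : CharP F r := charP_of_card_eq_prime_pow hF
  have := finite_PSL2 (F := F)
  have hf1 : 1 ≤ f := by
    rcases f with _ | f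
    · simp at h4
    · omega
  have hpq : ¬ p ∣ r ^ f := fun h => by
    rcases (Nat.Prime.dvd_mul hp).1 hd with h1 | h1
    · exact hp.one_lt.ne' (Nat.eq_one_of_dvd_one (by
        simpa [Nat.sub_sub_self (show 1 ≤ r ^ f by omega)] using Nat.dvd_sub h h1))
    · exact hp.one_lt.ne' (Nat.eq_one_of_dvd_one ((Nat.dvd_add_right h).1 h1))
  have hrp : ∀ j, ¬ r ∣ p ^ j := fun j h => hpq (by
    rw [← (Nat.prime_dvd_prime_iff_eq hr hp).1 (hr.dvd_of_dvd_pow h)]
    exact dvd_pow_self r (by omega))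
  have hg : ¬ p ∣ Nat.gcd 2 (r ^ f - 1) := fun h =>
    h2 ((Nat.prime_dvd_prime_iff_eq hp Nat.prime_two).1 (h.trans (Nat.gcd_dvd_left _ _)))
  have hne : (r ^ f - 1) * (r ^ f + 1) ≠ 0 := mul_ne_zero (by omega) (by omega)
  refine ⟨hp, h2, ?_, ?_, fun U j hU => ?_, out_of_not_dvd hp ?_⟩
  · have h1 := card_Z_mul_card_PSL2 (F := F)
    rw [card_Z_SL_eq_gcd, card_SL_two, hF, mul_assoc] at h1
    exact ((Nat.Prime.dvd_mul hp).1 (h1 ▸ hd.mul_left _)).resolve_left hg
  · obtain ⟨s, hs⟩ := WalCor.exists_orderOf_of_dvd (F := F) hp h2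
      (a := ((r ^ f - 1) * (r ^ f + 1)).factorization p) (hF ▸ Nat.ordProj_dvd _ _)
    refine cyc_of_surjective piSL_surjective (cyc_of_orderOf hs fun h => ?_)
    rw [card_SL_two, hF, mul_assoc] at h
    exact Nat.pow_succ_factorization_not_dvd hne hp
      ((((Nat.Prime.coprime_iff_not_dvd hp).2 hpq).pow_left _).dvd_of_dvd_mul_left h)
  · obtain ⟨U', h1, h3⟩ := exists_conj_le ((slLin F).sylowU r) (U := U.comap (piSL F))
      (by rw [index_comap_piSL, hU]; exact hrp j)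
    rw [index_comap_piSL] at h1
    by_cases hB : U' ≤ (slLin F).B
    · have h5 := Subgroup.index_dvd_of_le hB
      rw [Lin2.index_B, hF, h1, hU] at h5
      exact absurd h5 (hj j)
    · obtain ⟨x, hx, hxB⟩ := SetLike.not_le_iff_exists.1 hB
      rw [eq_top_of_B_lt h3 hxB hx, Subgroup.index_top] at h1
      exact Subgroup.index_eq_one.1 h1.symm
  · obtain ⟨φ, hφ, -, hk⟩ := Agent.S2602.result hf1 hF h4
    have : NeZero f := ⟨by omega⟩
    rw [← φ.ker.card_mul_index, hk, Subgroup.index_ker, MonoidHom.range_eq_top.2 hφ,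
      Subgroup.card_top, Nat.Prime.dvd_mul hp]
    simpa using ⟨hg, hf⟩

theorem ppd {a n : ℕ} (ha : 1 < a) (hn : 1 < n) (h6 : ¬ (a = 2 ∧ n = 6))
    (h2 : ¬ (n = 2 ∧ ∃ m, a + 1 = 2 ^ m)) : ∃ p, p.Prime ∧ n < p ∧ p ∣ a ^ n - 1 := by
  obtain ⟨p, hp, h⟩ := Class.zsigmondy ha hn h6 h2
  have := Fact.mk hp
  have h0 : (a : ZMod p) ≠ 0 := fun e => by rw [e, orderOf_zero] at h; omega
  have h1 := Nat.le_of_dvd (by have := hp.two_le; omega) (h ▸ ZMod.orderOf_dvd_card_sub_one h0)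
  refine ⟨p, hp, by have := hp.two_le; omega, (ZMod.natCast_eq_zero_iff _ _).1 ?_⟩
  rw [Nat.cast_sub (Nat.one_le_pow _ _ (by omega)), Nat.cast_pow, ← h, pow_orderOf_eq_one]
  simp

theorem not_succ_dvd_of_odd {q p : ℕ} (hq : Odd q) (hp : p.Prime) (h2 : p ≠ 2) (j : ℕ) :
    ¬ q + 1 ∣ p ^ j := fun h =>
  h2 ((Nat.prime_dvd_prime_iff_eq Nat.prime_two hp).1
    (Nat.prime_two.dvd_of_dvd_pow (hq.add_one.two_dvd.trans h))).symm

theorem exists_good_psl2 {F : Type*} [Field F] [Fintype F] (h4 : 4 ≤ Fintype.card F) :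
    ∃ p, Good p (PSL2 F) := by
  obtain ⟨r, _, ⟨f, hf0⟩, hr, hF⟩ := FiniteField.card' F
  simp only [PNat.mk_coe] at hF
  rw [hF] at h4
  have key : ∀ p, p.Prime → p ≠ 2 → p ∣ r ^ f - 1 → ∀ j, ¬ r ^ f + 1 ∣ p ^ j := by
    intro p hp h2 hd j h
    obtain ⟨i, -, hi⟩ := (Nat.dvd_prime_pow hp).1 h
    rcases i with _ | i
    · rw [pow_zero] at hi; omega
    · have h1 := Nat.dvd_sub (hi ▸ dvd_pow_self p i.succ_ne_zero) hd
      rw [show r ^ f + 1 - (r ^ f - 1) = 2 by omega] at h1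
      exact h2 ((Nat.prime_dvd_prime_iff_eq hp Nat.prime_two).1 h1)
  rcases hr.eq_two_or_odd' with rfl | hodd
  · by_cases h6 : f = 6
    · subst h6
      exact ⟨7, good_psl2 hr hF h4 (by decide) (by decide) (by decide) (by decide)
        (key 7 (by decide) (by decide) (by decide))⟩
    · have hf : 1 < f := by
        by_contra h
        obtain rfl : f = 1 := by omega
        omega
      obtain ⟨p, hp, h1, h3⟩ := ppd one_lt_two hf (fun h => h6 h.2) (by
        rintro ⟨-, m, hm⟩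
        rcases m with _ | m
        · omega
        · rw [pow_succ] at hm; omega)
      exact ⟨p, good_psl2 hr hF h4 hp (by omega) (h3.mul_right _)
        (Nat.not_dvd_of_pos_of_lt hf0 h1) (key p hp (by omega) h3)⟩
  · by_cases h1 : f = 1
    · subst h1
      refine ⟨3, good_psl2 hr hF h4 Nat.prime_three (by decide) ?_ (by decide)
        (not_succ_dvd_of_odd hodd.pow Nat.prime_three (by decide))⟩
      rw [pow_one] at h4 ⊢
      have h3 : ¬ 3 ∣ r := fun h => by
        have := (Nat.prime_dvd_prime_iff_eq Nat.prime_three hr).1 h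
        omega
      rw [Nat.prime_three.dvd_mul]
      omega
    · obtain ⟨p, hp, h2, h3⟩ := ppd hr.one_lt (n := 2 * f) (by omega)
        (by rintro ⟨rfl, -⟩; exact absurd hodd (by decide)) (by omega)
      refine ⟨p, good_psl2 hr hF h4 hp (by omega) ?_ (Nat.not_dvd_of_pos_of_lt hf0 (by omega))
        (not_succ_dvd_of_odd hodd.pow hp (by omega))⟩
      rwa [mul_comm, ← Nat.sq_sub_sq, one_pow, ← pow_mul, mul_comm]

end Cfsg.Lib.Gag
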